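import Groth.Prelude.Def_W4c6nonredquotmfGoodQuot
import Mathlib.Topology.Maps.Basic

/-!
# Good quotients: surjectivity and submersiveness
-/

set_option autoImplicit false
universe u

open CategoryTheory MonoidalCategory CartesianMonoidalCategory MonObj AlgebraicGeometry Topology

namespace K990.NRQuot

open _root_.NRQuot

variable {S : Scheme.{u}} {G : Over S} [GrpObj G] {X Y : Over S} {a : AlgGrp.Action G X} {φ : X ⟶ Y}

theorem IsGoodQuot.surjective (h : IsGoodQuot a φ) : Function.Surjective φ.left.base := by
  have := h.inter PEmpty (fun i => i.elim) (fun i => i.elim) (fun i => i.elim)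
  simp only [Set.iInter_of_empty, Set.image_univ] at this
  exact Set.range_eq_univ.mp this

/-- Preimages of subsets of `Y` are invariant. -/
theorem isInvariantSet_preimage (h : GIT.IsInvariant a φ) (Z : Set Y.left) :
    IsInvariantSet a (φ.left.base ⁻¹' Z) := by
  intro p hp
  have h1 := h.left
  have h2 : φ.left.base (a.act.left.base p) = φ.left.base ((snd G X).left.base p) := by
    have := congrArg (fun f => f.base p) h1
    simpa using this
  rw [Set.mem_preimage, h2]
  exact hp

theorem IsGoodQuot.isQuotientMap (h : IsGoodQuot a φ) : IsQuotientMap φ.left.base := by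
  rw [isQuotientMap_iff_isClosed]
  refine ⟨IsGoodQuot.surjective h, fun Z => ⟨fun hZ => hZ.preimage φ.left.continuous, fun hZ => ?_⟩⟩
  have := h.closed _ hZ (isInvariantSet_preimage h.inv Z)
  rwa [Set.image_preimage_eq _ (IsGoodQuot.surjective h)] at this

end K990.NRQuot
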