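import Groth.Agent.NRQuot.K990.Basic
import Groth.Agent.Books.BorelOrb
import Groth.Agent.Sga7.H270.FinPts
import Mathlib.AlgebraicGeometry.AlgClosed.Basic
import Mathlib.AlgebraicGeometry.Morphisms.FinitePresentation
import Mathlib.AlgebraicGeometry.Noetherian
import Mathlib.Topology.JacobsonSpace

/-!
# Orbits of rational points and good quotients
-/

set_option autoImplicit false
universe u

open CategoryTheory MonoidalCategory CartesianMonoidalCategory MonObj GrpObj AlgebraicGeometry Topology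
open Groth.Agent.Books.BorelOrb

namespace K990.NRQuot

open _root_.NRQuot

section Top

variable {X : Type u} [TopologicalSpace X]

theorem IsConstructible.exists_locallyClosed {s : Set X} (hs : IsConstructible s) :
    ∀ x, (x ∈ s → ∃ Z : Set X, IsLocallyClosed Z ∧ x ∈ Z ∧ Z ⊆ s) ∧
      (x ∉ s → ∃ Z : Set X, IsLocallyClosed Z ∧ x ∈ Z ∧ Z ⊆ sᶜ) := by
  induction hs using IsConstructible.empty_union_induction with
  | open_retrocompact U hUopen hUcomp =>
    exact fun x => ⟨fun hx => ⟨U, hUopen.isLocallyClosed, hx, subset_rfl⟩,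
      fun hx => ⟨Uᶜ, hUopen.isClosed_compl.isLocallyClosed, hx, subset_rfl⟩⟩
  | union s hs t ht hs' ht' =>
    refine fun x => ⟨?_, fun hx => ?_⟩
    · rintro (hx | hx)
      · obtain ⟨Z, h1, h2, h3⟩ := (hs' x).1 hx
        exact ⟨Z, h1, h2, h3.trans Set.subset_union_left⟩
      · obtain ⟨Z, h1, h2, h3⟩ := (ht' x).1 hx
        exact ⟨Z, h1, h2, h3.trans Set.subset_union_right⟩
    · obtain ⟨Z, h1, h2, h3⟩ := (hs' x).2 (fun h => hx (Or.inl h))
      obtain ⟨Z', h1', h2', h3'⟩ := (ht' x).2 (fun h => hx (Or.inr h))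
      refine ⟨Z ∩ Z', h1.inter h1', ⟨h2, h2'⟩, ?_⟩
      rw [Set.compl_union]
      exact Set.inter_subset_inter h3 h3'
  | compl s hs hs' =>
    exact fun x => ⟨fun hx => (hs' x).2 hx, fun hx => by
      have := (hs' x).1 (by simpa using hx)
      simpa using this⟩

theorem IsLocallyConstructible.exists_locallyClosed {s : Set X} (hs : IsLocallyConstructible s)
    (x : X) (hx : x ∈ s) : ∃ Z : Set X, IsLocallyClosed Z ∧ x ∈ Z ∧ Z ⊆ s := by
  obtain ⟨U, hU, hUo, hUs⟩ := hs x
  obtain ⟨Z, h1, h2, h3⟩ := (IsConstructible.exists_locallyClosed hUs ⟨x, mem_of_mem_nhds hU⟩).1 hx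
  refine ⟨Subtype.val '' Z, h1.image IsInducing.subtypeVal (by
    rw [Subtype.range_coe]; exact hUo.isLocallyClosed), ⟨_, h2, rfl⟩, ?_⟩
  rintro _ ⟨z, hz, rfl⟩
  exact h3 hz

theorem IsLocallyConstructible.exists_closedPoint [JacobsonSpace X] {s : Set X}
    (hs : IsLocallyConstructible s) (hne : s.Nonempty) : (s ∩ closedPoints X).Nonempty := by
  obtain ⟨x, hx⟩ := hne
  obtain ⟨Z, h1, h2, h3⟩ := IsLocallyConstructible.exists_locallyClosed hs x hx
  obtain ⟨z, hz⟩ := nonempty_inter_closedPoints ⟨x, h2⟩ h1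
  exact ⟨z, h3 hz.1, hz.2⟩

end Top

section Affine

/-- Two morphisms from a nonempty affine scheme to an affine scheme whose images have the same
closure have a common point in their images. -/
theorem inter_range_nonempty_spec {A B : Type u} [CommRing A] [CommRing B] [Nontrivial B]
    (f g : A →+* B)
    (h : closure (Set.range (PrimeSpectrum.comap f)) = closure (Set.range (PrimeSpectrum.comap g))) :
    (Set.range (PrimeSpectrum.comap f) ∩ Set.range (PrimeSpectrum.comap g)).Nonempty := by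
  rw [PrimeSpectrum.closure_range_comap, PrimeSpectrum.closure_range_comap,
    PrimeSpectrum.zeroLocus_eq_iff] at h
  have hne : RingHom.ker f ≠ ⊤ := RingHom.ker_ne_top f
  obtain ⟨p, hp⟩ := (Ideal.nonempty_minimalPrimes (I := RingHom.ker f) hne)
  have hp' : p ∈ (RingHom.ker g).minimalPrimes := by
    rw [← Ideal.radical_minimalPrimes, ← h, Ideal.radical_minimalPrimes]
    exact hp
  obtain ⟨q, hq, -, hqp⟩ := Ideal.exists_comap_eq_of_mem_minimalPrimes (I := ⊥) f p hp
  obtain ⟨q', hq', -, hqp'⟩ := Ideal.exists_comap_eq_of_mem_minimalPrimes (I := ⊥) g p hp'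
  refine ⟨⟨p, hp.1.1⟩, ⟨⟨q, hq⟩, ?_⟩, ⟨⟨q', hq'⟩, ?_⟩⟩
  · exact PrimeSpectrum.ext hqp
  · exact PrimeSpectrum.ext hqp'

theorem inter_range_nonempty {X Y : Scheme.{u}} [IsAffine X] [IsAffine Y] [Nonempty X]
    (f g : X ⟶ Y) (h : closure (Set.range f) = closure (Set.range g)) :
    (Set.range f ∩ Set.range g).Nonempty := by
  have : Nonempty (⊤ : X.Opens) := ⟨⟨Classical.arbitrary X, trivial⟩⟩
  have : Nontrivial Γ(X, ⊤) := Scheme.component_nontrivial X ⊤
  have key : ∀ f : X ⟶ Y, Set.range (Spec.map f.appTop) = Y.isoSpec.hom '' (Set.range f) := by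
    intro f
    have h1 : X.isoSpec.hom ≫ Spec.map f.appTop = f ≫ Y.isoSpec.hom :=
      Scheme.isoSpec_hom_naturality f
    have h2 : Set.range (X.isoSpec.hom ≫ Spec.map f.appTop) = Set.range (f ≫ Y.isoSpec.hom) := by
      rw [h1]
    rw [Scheme.Hom.comp_base, Scheme.Hom.comp_base, TopCat.coe_comp, TopCat.coe_comp] at h2
    rw [Set.range_comp, Set.range_comp, Set.range_eq_univ.mpr X.isoSpec.hom.surjective,
      Set.image_univ] at h2
    exact h2
  have hY : IsHomeomorph Y.isoSpec.hom := Y.isoSpec.hom.homeomorph.isHomeomorph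
  obtain ⟨y, hy1, hy2⟩ := inter_range_nonempty_spec (f.appTop).hom (g.appTop).hom (by
    change closure (Set.range (Spec.map f.appTop)) = closure (Set.range (Spec.map g.appTop))
    rw [key f, key g, hY.isClosedMap.closure_image_eq_of_continuous hY.continuous,
      hY.isClosedMap.closure_image_eq_of_continuous hY.continuous, h])
  change y ∈ Set.range (Spec.map f.appTop) at hy1
  change y ∈ Set.range (Spec.map g.appTop) at hy2
  rw [key] at hy1 hy2
  obtain ⟨y1, hy1, rfl⟩ := hy1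
  obtain ⟨y2, hy2, he⟩ := hy2
  rw [hY.injective he] at hy2
  exact ⟨y1, hy1, hy2⟩

end Affine

section Orbit

variable {k : Type u} [Field k]

/-- The underlying point of a rational point. -/
noncomputable abbrev pt {X : Over (Spec (CommRingCat.of k))}
    (x : 𝟙_ (Over (Spec (CommRingCat.of k))) ⟶ X) : X.left :=
  x.left (IsLocalRing.closedPoint k)

theorem isClosed_pt {X : Over (Spec (CommRingCat.of k))}
    (x : 𝟙_ (Over (Spec (CommRingCat.of k))) ⟶ X) : IsClosed ({pt x} : Set X.left) := by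
  have h := isClosedImmersion_of_comp_eq_id X.hom x.left (Over.w x)
  have h1 := x.left.isClosedEmbedding.isClosed_range
  have h2 : Set.range x.left = {pt x} := by
    apply Set.eq_singleton_iff_unique_mem.mpr
    refine ⟨⟨_, rfl⟩, ?_⟩
    rintro _ ⟨z, rfl⟩
    exact congrArg x.left (Subsingleton.elim (α := Spec (CommRingCat.of k)) _ _)
  rwa [h2] at h1

theorem pt_ext {X : Over (Spec (CommRingCat.of k))}
    {x y : 𝟙_ (Over (Spec (CommRingCat.of k))) ⟶ X} (h : pt x = pt y) : x = y := by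
  ext1
  exact Groth.Agent.Sga7.H270.FinPts.section_ext X.hom x.left y.left (Over.w x) (Over.w y) h

theorem pt_comp {X Y : Over (Spec (CommRingCat.of k))}
    (x : 𝟙_ (Over (Spec (CommRingCat.of k))) ⟶ X) (f : X ⟶ Y) : pt (x ≫ f) = f.left (pt x) := by
  exact Scheme.Hom.comp_apply x.left f.left _

theorem toUnit_pt {T X : Over (Spec (CommRingCat.of k))}
    (x : 𝟙_ (Over (Spec (CommRingCat.of k))) ⟶ X) (t : T.left) :
    (toUnit T ≫ x).left t = pt x := by
  rw [Over.comp_left, Scheme.Hom.comp_apply]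
  exact congrArg x.left (Subsingleton.elim (α := Spec (CommRingCat.of k)) _ _)

theorem exists_pt [IsAlgClosed k] {X : Over (Spec (CommRingCat.of k))} [LocallyOfFiniteType X.hom]
    (x : X.left) (hx : IsClosed {x}) :
    ∃ g : 𝟙_ (Over (Spec (CommRingCat.of k))) ⟶ X, pt g = x :=
  ⟨Over.homMk (pointOfClosedPoint X.hom x hx) (by simp), pointOfClosedPoint_apply _ _ _ _⟩

variable {G X Y : Over (Spec (CommRingCat.of k))} [GrpObj G] (a : AlgGrp.Action G X) {φ : X ⟶ Y}

/-- The orbit of a rational point. -/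
noncomputable abbrev orb (x : 𝟙_ (Over (Spec (CommRingCat.of k))) ⟶ X) : Set X.left :=
  Set.range (a.orbitMap x).left

theorem comp_toUnit_of_unit {T : Over (Spec (CommRingCat.of k))}
    (x : 𝟙_ (Over (Spec (CommRingCat.of k))) ⟶ T) :
    x ≫ toUnit T = 𝟙 _ := toUnit_unique _ _

theorem section_orbitMap (g : 𝟙_ (Over (Spec (CommRingCat.of k))) ⟶ G)
    (x : 𝟙_ (Over (Spec (CommRingCat.of k))) ⟶ X) : g ≫ a.orbitMap x = sm a g x := by
  rw [comp_orbitMap, toUnit_unique (toUnit (𝟙_ (Over (Spec (CommRingCat.of k))))) (𝟙 _),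
    Category.id_comp]

theorem tr_pt (g : 𝟙_ (Over (Spec (CommRingCat.of k))) ⟶ G)
    (x : 𝟙_ (Over (Spec (CommRingCat.of k))) ⟶ X) : (tr a g).left (pt x) = pt (sm a g x) := by
  rw [← pt_comp, comp_tr, toUnit_unique (toUnit (𝟙_ (Over (Spec (CommRingCat.of k))))) (𝟙 _),
    Category.id_comp]

theorem mem_orb (x : 𝟙_ (Over (Spec (CommRingCat.of k))) ⟶ X) : pt x ∈ orb a x := by
  refine ⟨pt (1 : 𝟙_ (Over (Spec (CommRingCat.of k))) ⟶ G), ?_⟩
  rw [← pt_comp, section_orbitMap, one_sm]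

theorem isInvariantSet_of_stable [IsAlgClosed k] [LocallyOfFiniteType G.hom]
    [LocallyOfFiniteType X.hom] (W : Set X.left) (hW : IsClosed W)
    (h : ∀ (g : 𝟙_ (Over (Spec (CommRingCat.of k))) ⟶ G)
      (z : 𝟙_ (Over (Spec (CommRingCat.of k))) ⟶ X), pt z ∈ W → pt (sm a g z) ∈ W) :
    IsInvariantSet a W := by
  intro p hp
  by_contra hp'
  have : LocallyOfFiniteType (G ⊗ X).hom := by
    rw [← Over.w (snd G X)]
    have : LocallyOfFiniteType (snd G X).left :=
      inferInstanceAs (LocallyOfFiniteType (Limits.pullback.snd G.hom X.hom))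
    infer_instance
  have : JacobsonSpace (G ⊗ X).left := LocallyOfFiniteType.jacobsonSpace (G ⊗ X).hom
  obtain ⟨q, ⟨hq1, hq2⟩, hq3⟩ := nonempty_inter_closedPoints
    (Z := (snd G X).left ⁻¹' W ∩ (a.act.left ⁻¹' W)ᶜ) ⟨p, hp, hp'⟩
    ((hW.preimage (snd G X).left.continuous).isLocallyClosed.inter
      (hW.preimage a.act.left.continuous).isOpen_compl.isLocallyClosed)
  obtain ⟨q, rfl⟩ := exists_pt q hq3
  apply hq2
  change (snd G X).left (pt q) ∈ W at hq1
  change a.act.left (pt q) ∈ W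
  rw [← pt_comp] at hq1 ⊢
  have := h (q ≫ fst G X) (q ≫ snd G X) hq1
  have h2 : sm a (q ≫ fst G X) (q ≫ snd G X) = q ≫ a.act := by
    rw [sm]
    congr 1
    apply CartesianMonoidalCategory.hom_ext <;> simp
  rwa [h2] at this

theorem tr_orb_subset (g : 𝟙_ (Over (Spec (CommRingCat.of k))) ⟶ G)
    (x : 𝟙_ (Over (Spec (CommRingCat.of k))) ⟶ X) :
    (tr a g).left '' (orb a x) ⊆ orb a x := by
  rintro _ ⟨_, ⟨h, rfl⟩, rfl⟩
  refine ⟨(ltr g).left h, ?_⟩
  have := congrArg (fun f => f.left h) (ltr_orbitMap a g x)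
  simpa using this

theorem isInvariantSet_closure_orb [IsAlgClosed k] [LocallyOfFiniteType G.hom]
    [LocallyOfFiniteType X.hom] (x : 𝟙_ (Over (Spec (CommRingCat.of k))) ⟶ X) :
    IsInvariantSet a (closure (orb a x)) := by
  apply isInvariantSet_of_stable a _ isClosed_closure
  intro g z hz
  rw [← tr_pt]
  have h1 : (tr a g).left (pt z) ∈ closure ((tr a g).left '' (orb a x)) :=
    image_closure_subset_closure_image (tr a g).left.continuous ⟨_, hz, rfl⟩
  exact closure_mono (tr_orb_subset a g x) h1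

theorem orb_subset_of_invariant {W : Set X.left} (hW : IsInvariantSet a W)
    (x : 𝟙_ (Over (Spec (CommRingCat.of k))) ⟶ X) (hx : pt x ∈ W) : orb a x ⊆ W := by
  rintro _ ⟨h, rfl⟩
  have h1 : (a.orbitMap x).left h =
      a.act.left ((lift (𝟙 G) (toUnit G ≫ x)).left h) := by
    rw [← Scheme.Hom.comp_apply, ← Over.comp_left]
    rfl
  rw [h1]
  apply hW
  rw [← Scheme.Hom.comp_apply, ← Over.comp_left, lift_snd, toUnit_pt]
  exact hx

theorem orb_subset_fibre (h : GIT.IsInvariant a φ)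
    (x : 𝟙_ (Over (Spec (CommRingCat.of k))) ⟶ X) :
    orb a x ⊆ φ.left ⁻¹' {pt (x ≫ φ)} :=
  orb_subset_of_invariant a (isInvariantSet_preimage h _) x (by rw [pt_comp]; rfl)

theorem closure_orb_subset_fibre (h : GIT.IsInvariant a φ)
    (x : 𝟙_ (Over (Spec (CommRingCat.of k))) ⟶ X) :
    closure (orb a x) ⊆ φ.left ⁻¹' {pt (x ≫ φ)} :=
  closure_minimal (orb_subset_fibre a h x) ((isClosed_pt _).preimage φ.left.continuous)

/-- Closures of orbits meet iff the images in a good quotient agree. -/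
theorem closure_inter_nonempty_iff [IsAlgClosed k] [LocallyOfFiniteType G.hom]
    [LocallyOfFiniteType X.hom] (h : IsGoodQuot a φ)
    (x₁ x₂ : 𝟙_ (Over (Spec (CommRingCat.of k))) ⟶ X) :
    (closure (orb a x₁) ∩ closure (orb a x₂)).Nonempty ↔ x₁ ≫ φ = x₂ ≫ φ := by
  constructor
  · rintro ⟨z, hz1, hz2⟩
    have h1 := closure_orb_subset_fibre a h.inv x₁ hz1
    have h2 := closure_orb_subset_fibre a h.inv x₂ hz2
    apply pt_ext
    exact h1.symm.trans h2
  · intro he
    let W : ULift.{u} Bool → Set X.left := fun i => if i.down then closure (orb a x₁) else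
      closure (orb a x₂)
    have := h.inter (ULift.{u} Bool) W
      (fun i => by simp only [W]; split_ifs <;> exact isClosed_closure)
      (fun i => by simp only [W]; split_ifs <;> exact isInvariantSet_closure_orb a _)
    have h3 : pt (x₁ ≫ φ) ∈ ⋂ i, φ.left.base '' (W i) := by
      refine Set.mem_iInter.mpr fun i => ?_
      simp only [W]
      split_ifs
      · exact ⟨pt x₁, subset_closure (mem_orb a x₁), (pt_comp _ _).symm⟩
      · rw [he]
        exact ⟨pt x₂, subset_closure (mem_orb a x₂), (pt_comp _ _).symm⟩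
    rw [← this] at h3
    obtain ⟨z, hz, -⟩ := h3
    exact ⟨z, Set.mem_iInter.mp hz ⟨true⟩, Set.mem_iInter.mp hz ⟨false⟩⟩

/-- If two orbits of rational points meet then the points are conjugate. -/
theorem exists_sm_eq_of_inter [IsAlgClosed k] [LocallyOfFiniteType G.hom]
    [LocallyOfFiniteType X.hom] (x₁ x₂ : 𝟙_ (Over (Spec (CommRingCat.of k))) ⟶ X)
    (h : (orb a x₁ ∩ orb a x₂).Nonempty) :
    ∃ g : 𝟙_ (Over (Spec (CommRingCat.of k))) ⟶ G, sm a g x₁ = x₂ := by
  obtain ⟨z, ⟨z₁, hz1⟩, ⟨z₂, hz2⟩⟩ := h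
  let f₁ := (a.orbitMap x₁).left
  let f₂ := (a.orbitMap x₂).left
  obtain ⟨p, -, -⟩ := Scheme.Pullback.exists_preimage_pullback (f := f₁) (g := f₂) z₁ z₂
    (hz1.trans hz2.symm)
  let P : Over (Spec (CommRingCat.of k)) := Over.mk (Limits.pullback.fst f₁ f₂ ≫ G.hom)
  have hP : LocallyOfFiniteType P.hom := by
    have h1 : LocallyOfFiniteType f₂ := by
      have : LocallyOfFiniteType (f₂ ≫ X.hom) := by
        rw [Over.w]; infer_instance
      exact locallyOfFiniteType_of_comp f₂ X.hom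
    change LocallyOfFiniteType (Limits.pullback.fst f₁ f₂ ≫ G.hom)
    infer_instance
  have hJ : JacobsonSpace P.left := LocallyOfFiniteType.jacobsonSpace P.hom
  obtain ⟨q, -, hq⟩ := nonempty_inter_closedPoints (X := P.left) (Z := Set.univ) ⟨p, trivial⟩
    isClosed_univ.isLocallyClosed
  obtain ⟨q, rfl⟩ := exists_pt q hq
  let p₁ : P ⟶ G := Over.homMk (Limits.pullback.fst f₁ f₂) rfl
  let p₂ : P ⟶ G := Over.homMk (Limits.pullback.snd f₁ f₂) (by
    change Limits.pullback.snd f₁ f₂ ≫ G.hom = Limits.pullback.fst f₁ f₂ ≫ G.hom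
    have e1 : f₁ ≫ X.hom = G.hom := Over.w (a.orbitMap x₁)
    have e2 : f₂ ≫ X.hom = G.hom := Over.w (a.orbitMap x₂)
    calc Limits.pullback.snd f₁ f₂ ≫ G.hom = Limits.pullback.snd f₁ f₂ ≫ f₂ ≫ X.hom := by rw [e2]
      _ = Limits.pullback.fst f₁ f₂ ≫ f₁ ≫ X.hom := by
        rw [← Category.assoc, ← Limits.pullback.condition, Category.assoc]
      _ = _ := by rw [e1])
  have hc : p₁ ≫ a.orbitMap x₁ = p₂ ≫ a.orbitMap x₂ := by
    ext1
    exact Limits.pullback.condition
  have hs : sm a (q ≫ p₁) x₁ = sm a (q ≫ p₂) x₂ := by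
    rw [← section_orbitMap, ← section_orbitMap, Category.assoc, Category.assoc, hc]
  refine ⟨(q ≫ p₂)⁻¹ * (q ≫ p₁), ?_⟩
  rw [mul_sm, hs, ← mul_sm, inv_mul_cancel, one_sm]

end Orbit

end K990.NRQuot
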