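import Groth.Agent.NRQuot.K990.Basic
import Mathlib.CategoryTheory.Limits.Constructions.Over.Connected
import Mathlib.AlgebraicGeometry.Restrict

/-!
# Restricting a good quotient to an open subscheme of the quotient
-/

set_option autoImplicit false
universe v u

open CategoryTheory MonoidalCategory CartesianMonoidalCategory MonObj AlgebraicGeometry Topology
open CategoryTheory.Limits

namespace K990.NRQuot

open _root_.NRQuot

section Cartesian

variable {C : Type u} [Category.{v} C] [CartesianMonoidalCategory C]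

theorem isPullback_whiskerLeft {X Y : C} (f : X ⟶ Y) (Z : C) :
    IsPullback (Z ◁ f) (snd Z X) (snd Z Y) f where
  w := by simp
  isLimit' := ⟨PullbackCone.IsLimit.mk _ (fun s ↦ lift (s.fst ≫ fst Z Y) s.snd)
    (fun s ↦ by
      have := s.condition
      apply CartesianMonoidalCategory.hom_ext
      · simp
      · simp [this])
    (fun s ↦ by simp)
    (fun s m h1 h2 ↦ by
      apply CartesianMonoidalCategory.hom_ext
      · simp [← h1]
      · simp [← h2])⟩

end Cartesian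

theorem isPullback_whiskerLeft_left {S : Scheme.{u}} {X Y : Over S} (f : X ⟶ Y) (Z : Over S) :
    IsPullback (Z ◁ f).left (snd Z X).left (snd Z Y).left f.left :=
  (isPullback_whiskerLeft f Z).map (Over.forget S)

theorem isOpenImmersion_whiskerLeft {S : Scheme.{u}} {X Y : Over S} (f : X ⟶ Y) (Z : Over S)
    [IsOpenImmersion f.left] : IsOpenImmersion (Z ◁ f).left :=
  MorphismProperty.of_isPullback (isPullback_whiskerLeft_left f Z).flip inferInstance

theorem opensRange_whiskerLeft {S : Scheme.{u}} {X Y : Over S} (f : X ⟶ Y) (Z : Over S)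
    [IsOpenImmersion f.left] [IsOpenImmersion (Z ◁ f).left] :
    (Z ◁ f).left.opensRange = (snd Z Y).left ⁻¹ᵁ f.left.opensRange := by
  apply le_antisymm
  · rintro _ ⟨p, rfl⟩
    refine ⟨(snd Z X).left p, ?_⟩
    rw [← Scheme.Hom.comp_apply, ← (isPullback_whiskerLeft_left f Z).w]
    rfl
  · intro y hy
    obtain ⟨x', hx'⟩ : ∃ x', f.left x' = (snd Z Y).left y := hy
    obtain ⟨z, hz, -⟩ := Scheme.exists_preimage_of_isPullback (isPullback_whiskerLeft_left f Z) y x'
      hx'.symm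
    exact ⟨z, hz⟩

/-- The comparison of sections over matching opens of an open immersion is bijective. -/
theorem appLE_bijective {X Y : Scheme.{u}} (j : X ⟶ Y) [IsOpenImmersion j] (V : Y.Opens)
    (V' : X.Opens) (hV : V ≤ j.opensRange) (h : V' = j ⁻¹ᵁ V) :
    Function.Bijective (j.appLE V V' h.le) := by
  subst h
  have := Scheme.Hom.isIso_app j V hV
  have : j.appLE V (j ⁻¹ᵁ V) le_rfl = j.app V := (Scheme.Hom.app_eq_appLE (f := j)).symm
  rw [this]
  exact ConcreteCategory.bijective_of_isIso (j.app V)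

section Restrict

variable {S : Scheme.{u}} {G : Over S} [GrpObj G] {X Y X' Y' : Over S}
  {a : AlgGrp.Action G X} {φ : X ⟶ Y} {a' : AlgGrp.Action G X'} {φ' : X' ⟶ Y'}
  {j : X' ⟶ X} {i : Y' ⟶ Y}

theorem isInvSection_iff (ha : a'.act ≫ j = (G ◁ j) ≫ a.act)
    (V : Y.left.Opens) (V' : Y'.left.Opens)
    (e : φ'.left ⁻¹ᵁ V' ≤ j.left ⁻¹ᵁ (φ.left ⁻¹ᵁ V))
    (O : (G ⊗ X).left.Opens) (O' : (G ⊗ X').left.Opens)
    (hO : O = a.act.left ⁻¹ᵁ (φ.left ⁻¹ᵁ V) ⊓ (snd G X).left ⁻¹ᵁ (φ.left ⁻¹ᵁ V))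
    (hO' : O' = a'.act.left ⁻¹ᵁ (φ'.left ⁻¹ᵁ V') ⊓ (snd G X').left ⁻¹ᵁ (φ'.left ⁻¹ᵁ V'))
    (hOO' : O' ≤ (G ◁ j).left ⁻¹ᵁ O)
    (hinj : Function.Injective ((G ◁ j).left.appLE O O' hOO'))
    (f : Γ(X.left, φ.left ⁻¹ᵁ V)) :
    GIT.IsInvSection a' φ' V' (j.left.appLE (φ.left ⁻¹ᵁ V) (φ'.left ⁻¹ᵁ V') e f) ↔
      GIT.IsInvSection a φ V f := by
  unfold GIT.IsInvSection
  subst hO hO'
  have e1 : j.left.appLE (φ.left ⁻¹ᵁ V) (φ'.left ⁻¹ᵁ V') e ≫ a'.act.left.appLE (φ'.left ⁻¹ᵁ V')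
      (a'.act.left ⁻¹ᵁ (φ'.left ⁻¹ᵁ V') ⊓ (snd G X').left ⁻¹ᵁ (φ'.left ⁻¹ᵁ V')) inf_le_left =
      a.act.left.appLE (φ.left ⁻¹ᵁ V)
        (a.act.left ⁻¹ᵁ (φ.left ⁻¹ᵁ V) ⊓ (snd G X).left ⁻¹ᵁ (φ.left ⁻¹ᵁ V)) inf_le_left ≫
      (G ◁ j).left.appLE _ _ hOO' := by
    rw [Scheme.Hom.appLE_comp_appLE, Scheme.Hom.appLE_comp_appLE]
    have := congrArg CommaMorphism.left ha
    simp only [Over.comp_left] at this
    congr 1
  have e2 : j.left.appLE (φ.left ⁻¹ᵁ V) (φ'.left ⁻¹ᵁ V') e ≫ (snd G X').left.appLE (φ'.left ⁻¹ᵁ V')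
      (a'.act.left ⁻¹ᵁ (φ'.left ⁻¹ᵁ V') ⊓ (snd G X').left ⁻¹ᵁ (φ'.left ⁻¹ᵁ V')) inf_le_right =
      (snd G X).left.appLE (φ.left ⁻¹ᵁ V)
        (a.act.left ⁻¹ᵁ (φ.left ⁻¹ᵁ V) ⊓ (snd G X).left ⁻¹ᵁ (φ.left ⁻¹ᵁ V)) inf_le_right ≫
      (G ◁ j).left.appLE _ _ hOO' := by
    rw [Scheme.Hom.appLE_comp_appLE, Scheme.Hom.appLE_comp_appLE]
    have := congrArg CommaMorphism.left (whiskerLeft_snd G j)
    simp only [Over.comp_left] at this
    congr 1
    exact this.symm
  have e1' := congrArg (fun g => g.hom f) e1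
  have e2' := congrArg (fun g => g.hom f) e2
  simp only [CommRingCat.hom_comp, RingHom.comp_apply] at e1' e2'
  have e3 : ∀ s t : Γ((G ⊗ X').left, a'.act.left ⁻¹ᵁ (φ'.left ⁻¹ᵁ V') ⊓ (snd G X').left ⁻¹ᵁ (φ'.left ⁻¹ᵁ V')),
      ∀ s' t' : Γ((G ⊗ X).left, a.act.left ⁻¹ᵁ (φ.left ⁻¹ᵁ V) ⊓ (snd G X).left ⁻¹ᵁ (φ.left ⁻¹ᵁ V)),
      s = (G ◁ j).left.appLE _ _ hOO' s' → t = (G ◁ j).left.appLE _ _ hOO' t' → (s = t ↔ s' = t') := by
    rintro s t s' t' rfl rfl
    exact hinj.eq_iff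
  exact e3 _ _ _ _ e1' e2'

theorem sections_restrict [IsOpenImmersion j.left] [IsOpenImmersion i.left] (h : IsGoodQuot a φ)
    (ha : a'.act ≫ j = (G ◁ j) ≫ a.act)
    (hφ : φ' ≫ i = j ≫ φ)
    (hr : j.left.opensRange = φ.left ⁻¹ᵁ i.left.opensRange) (V' : Y'.left.Opens) :
    Function.Injective (φ'.left.app V') ∧
      Set.range (φ'.left.app V') = {f | GIT.IsInvSection a' φ' V' f} := by
  have := isOpenImmersion_whiskerLeft j G
  set V : Y.left.Opens := i.left ''ᵁ V' with hV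
  have hVi : i.left ⁻¹ᵁ V = V' := Scheme.Hom.preimage_image_eq i.left V'
  have hφl : φ'.left ≫ i.left = j.left ≫ φ.left := by
    have := congrArg CommaMorphism.left hφ
    simpa using this
  have hVj : j.left ⁻¹ᵁ (φ.left ⁻¹ᵁ V) = φ'.left ⁻¹ᵁ V' := by
    rw [← Scheme.Hom.comp_preimage, ← hφl, Scheme.Hom.comp_preimage, hVi]
  have hVr : V ≤ i.left.opensRange := Scheme.Hom.image_le_opensRange i.left V'
  have hVr' : φ.left ⁻¹ᵁ V ≤ j.left.opensRange := by
    rw [hr]
    exact φ.left.preimage_mono hVr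
  have hal := congrArg CommaMorphism.left ha
  have hsl := congrArg CommaMorphism.left (whiskerLeft_snd G j)
  simp only [Over.comp_left] at hal hsl
  have hO : a'.act.left ⁻¹ᵁ (φ'.left ⁻¹ᵁ V') ⊓ (snd G X').left ⁻¹ᵁ (φ'.left ⁻¹ᵁ V') =
      (G ◁ j).left ⁻¹ᵁ (a.act.left ⁻¹ᵁ (φ.left ⁻¹ᵁ V) ⊓ (snd G X).left ⁻¹ᵁ (φ.left ⁻¹ᵁ V)) := by
    rw [← hVj, ← Scheme.Hom.comp_preimage a'.act.left j.left,
      ← Scheme.Hom.comp_preimage (snd G X').left j.left, hal, ← hsl]
    rfl
  have hOr : (a.act.left ⁻¹ᵁ (φ.left ⁻¹ᵁ V) ⊓ (snd G X).left ⁻¹ᵁ (φ.left ⁻¹ᵁ V)) ≤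
      (G ◁ j).left.opensRange := by
    rw [opensRange_whiskerLeft]
    exact inf_le_right.trans ((snd G X).left.preimage_mono hVr')
  have bX := appLE_bijective j.left (φ.left ⁻¹ᵁ V) (φ'.left ⁻¹ᵁ V') hVr' hVj.symm
  have bY := appLE_bijective i.left V V' hVr hVi.symm
  have bP := appLE_bijective (G ◁ j).left _ _ hOr hO
  have hcomm : φ.left.app V ≫ j.left.appLE (φ.left ⁻¹ᵁ V) (φ'.left ⁻¹ᵁ V') hVj.ge =
      i.left.appLE V V' hVi.ge ≫ φ'.left.app V' := by
    rw [Scheme.Hom.app_eq_appLE, Scheme.Hom.app_eq_appLE, Scheme.Hom.appLE_comp_appLE,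
      Scheme.Hom.appLE_comp_appLE]
    congr 1
    exact hφl.symm
  have hcomm' : ∀ s, j.left.appLE (φ.left ⁻¹ᵁ V) (φ'.left ⁻¹ᵁ V') hVj.ge (φ.left.app V s) =
      φ'.left.app V' (i.left.appLE V V' hVi.ge s) := by
    intro s
    have := congrArg (fun g => g.hom s) hcomm
    simpa only [CommRingCat.hom_comp, RingHom.comp_apply] using this
  have hinv := fun f => isInvSection_iff (a := a) (a' := a') ha V V' hVj.ge _ _ rfl rfl _ bP.1 f
  obtain ⟨h1, h2⟩ := h.sections V
  constructor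
  · intro s t hst
    obtain ⟨s, rfl⟩ := bY.2 s
    obtain ⟨t, rfl⟩ := bY.2 t
    rw [← hcomm', ← hcomm'] at hst
    rw [h1 (bX.1 hst)]
  · ext f
    obtain ⟨f, rfl⟩ := bX.2 f
    rw [Set.mem_ofPred_eq, hinv f]
    have h3 : f ∈ Set.range (φ.left.app V) ↔ GIT.IsInvSection a φ V f := by
      rw [h2]; rfl
    rw [← h3]
    constructor
    · rintro ⟨s, hs⟩
      obtain ⟨s, rfl⟩ := bY.2 s
      rw [← hcomm'] at hs
      exact ⟨s, bX.1 hs⟩
    · rintro ⟨s, rfl⟩
      exact ⟨_, (hcomm' s).symm⟩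

/-- The subset of `X` used to extend an invariant closed subset of `X'`. -/
theorem extend_isClosed [IsOpenImmersion j.left] (W : Set X'.left) (hW : IsClosed W) :
    IsClosed ((Set.range j.left.base)ᶜ ∪ j.left.base '' W) := by
  have hj : IsOpenEmbedding j.left.base := j.left.isOpenEmbedding
  rw [← isOpen_compl_iff]
  have : ((Set.range j.left.base)ᶜ ∪ j.left.base '' W)ᶜ = j.left.base '' Wᶜ := by
    rw [Set.compl_union, compl_compl, Set.image_compl_eq_range_sdiff_image hj.injective]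
    rfl
  rw [this]
  exact hj.isOpenMap _ hW.isOpen_compl

theorem extend_isInvariantSet [IsOpenImmersion j.left] (h : GIT.IsInvariant a φ)
    (ha : a'.act ≫ j = (G ◁ j) ≫ a.act) (Z : Set Y.left)
    (hr : Set.range j.left.base = φ.left.base ⁻¹' Z)
    (W : Set X'.left) (hW : IsInvariantSet a' W) :
    IsInvariantSet a ((Set.range j.left.base)ᶜ ∪ j.left.base '' W) := by
  intro p hp
  have := isOpenImmersion_whiskerLeft j G
  rcases hp with hp | ⟨w, hw, hwp⟩
  · left
    rw [hr, ← Set.preimage_compl] at hp ⊢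
    exact isInvariantSet_preimage h _ p hp
  · right
    have hpr : p ∈ (G ◁ j).left.opensRange := by
      rw [opensRange_whiskerLeft]
      exact ⟨w, hwp⟩
    obtain ⟨q, rfl⟩ := hpr
    have h1 := congrArg (fun g => g.left.base q) ha
    have h2 := congrArg (fun g => g.left.base q) (whiskerLeft_snd G j)
    simp only [Over.comp_left, Scheme.Hom.comp_base, TopCat.hom_comp, ContinuousMap.comp_apply] at h1 h2
    have h3 : j.left.base w = j.left.base ((snd G X').left.base q) := hwp.trans h2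
    have h4 : w = (snd G X').left.base q := j.left.isOpenEmbedding.injective h3
    exact ⟨a'.act.left.base q, hW q (by rw [← h4]; exact hw), h1⟩

theorem isGoodQuot_restrict [IsOpenImmersion j.left] [IsOpenImmersion i.left] (h : IsGoodQuot a φ)
    (ha : a'.act ≫ j = (G ◁ j) ≫ a.act)
    (hφ : φ' ≫ i = j ≫ φ)
    (hr : j.left.opensRange = φ.left ⁻¹ᵁ i.left.opensRange) : IsGoodQuot a' φ' := by
  have hφl : φ'.left ≫ i.left = j.left ≫ φ.left := by
    have := congrArg CommaMorphism.left hφ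
    simpa using this
  have hpt : ∀ x, i.left.base (φ'.left.base x) = φ.left.base (j.left.base x) := by
    intro x
    have := congrArg (fun g => g.base x) hφl
    simpa using this
  have hinj_i : Function.Injective i.left.base := i.left.isOpenEmbedding.injective
  have hinj_j : Function.Injective j.left.base := j.left.isOpenEmbedding.injective
  have hrs : Set.range j.left.base = φ.left.base ⁻¹' (Set.range i.left.base) := by
    have := congrArg (fun U : X.left.Opens => (U : Set X.left)) hr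
    simpa using this
  -- the image of the extension
  have himg : ∀ W : Set X'.left, φ'.left.base '' W =
      i.left.base ⁻¹' (φ.left.base '' ((Set.range j.left.base)ᶜ ∪ j.left.base '' W)) := by
    intro W
    ext y
    constructor
    · rintro ⟨w, hw, rfl⟩
      exact ⟨j.left.base w, Or.inr ⟨w, hw, rfl⟩, (hpt w).symm⟩
    · rintro ⟨x, hx | ⟨w, hw, rfl⟩, hxy⟩
      · exfalso
        apply hx
        rw [hrs]
        exact ⟨y, hxy.symm⟩
      · refine ⟨w, hw, hinj_i ?_⟩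
        rw [hpt w, hxy]
  have : Mono i := Over.mono_of_mono_left i
  refine ⟨?_, ?_, sections_restrict h ha hφ hr, ?_, ?_⟩
  · -- affine
    have hpb : IsPullback φ'.left j.left i.left φ.left :=
      IsOpenImmersion.isPullback φ'.left j.left i.left φ.left hφl.symm hr.symm
    exact MorphismProperty.of_isPullback hpb.flip h.affine
  · -- invariance
    change a'.act ≫ φ' = snd G X' ≫ φ'
    rw [← cancel_mono i, Category.assoc, Category.assoc, hφ, ← Category.assoc, ha, Category.assoc,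
      h.inv, ← Category.assoc, whiskerLeft_snd, Category.assoc]
  · intro W hW hWi
    rw [himg W]
    exact (h.closed _ (extend_isClosed (j := j) W hW)
      (extend_isInvariantSet h.inv ha _ hrs W hWi)).preimage i.left.continuous
  · intro J W hW hWi
    have := h.inter J (fun k => (Set.range j.left.base)ᶜ ∪ j.left.base '' W k)
      (fun k => extend_isClosed (j := j) (W k) (hW k))
      (fun k => extend_isInvariantSet h.inv ha _ hrs (W k) (hWi k))
    rw [himg]
    simp_rw [himg]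
    rw [← Set.preimage_iInter, ← this]
    congr 2
    rw [← Set.union_iInter]
    ext x
    constructor
    · rintro (hx | ⟨w, hw, rfl⟩)
      · exact Or.inl hx
      · refine Or.inr (Set.mem_iInter.mpr fun k => ⟨w, Set.mem_iInter.mp hw k, rfl⟩)
    · rintro (hx | hx)
      · exact Or.inl hx
      · by_cases hxr : x ∈ Set.range j.left.base
        · obtain ⟨w, rfl⟩ := hxr
          refine Or.inr ⟨w, Set.mem_iInter.mpr fun k => ?_, rfl⟩
          obtain ⟨w', hw', e⟩ := Set.mem_iInter.mp hx k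
          rwa [← hinj_j e]
        · exact Or.inl hxr

end Restrict

end K990.NRQuot
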