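import Groth.Agent.NRQuot.K990.Orbit

/-!
# Existence of closed orbits in the fibres of a good quotient
-/

set_option autoImplicit false
universe u

open CategoryTheory MonoidalCategory CartesianMonoidalCategory MonObj GrpObj AlgebraicGeometry Topology
open Groth.Agent.Books.BorelOrb TopologicalSpace

namespace K990.NRQuot

open _root_.NRQuot

variable {k : Type u} [Field k] [IsAlgClosed k]
variable {G X Y : Over (Spec (CommRingCat.of k))} [GrpObj G] (a : AlgGrp.Action G X) {φ : X ⟶ Y}

/-- The orbit map with values in an open subscheme containing the orbit. -/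
noncomputable def orbLift (x : 𝟙_ (Over (Spec (CommRingCat.of k))) ⟶ X) (U : X.left.Opens)
    (h : orb a x ⊆ U) : G.left ⟶ U :=
  IsOpenImmersion.lift U.ι (a.orbitMap x).left (by rw [Scheme.Opens.range_ι]; exact h)

omit [IsAlgClosed k] in
theorem orbLift_ι (x : 𝟙_ (Over (Spec (CommRingCat.of k))) ⟶ X) (U : X.left.Opens)
    (h : orb a x ⊆ U) : orbLift a x U h ≫ U.ι = (a.orbitMap x).left :=
  IsOpenImmersion.lift_fac _ _ _

omit [IsAlgClosed k] in
theorem range_orbLift (x : 𝟙_ (Over (Spec (CommRingCat.of k))) ⟶ X) (U : X.left.Opens)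
    (h : orb a x ⊆ U) : Set.range (orbLift a x U h) = U.ι ⁻¹' orb a x := by
  have h1 : orb a x = U.ι '' Set.range (orbLift a x U h) := by
    rw [orb, ← orbLift_ι a x U h, Scheme.Hom.comp_base, TopCat.coe_comp, Set.range_comp]
  rw [h1, Set.preimage_image_eq _ U.ι.isOpenEmbedding.injective]

theorem orb_eq_of_forall_closure_eq [IsAffine G.left] [LocallyOfFiniteType G.hom]
    [LocallyOfFiniteType X.hom] (U : X.left.Opens) (hU : IsAffineOpen U) (W : Set X.left)
    (hWU : W ⊆ U) (hmin : ∀ x : 𝟙_ (Over (Spec (CommRingCat.of k))) ⟶ X, pt x ∈ W →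
      closure (orb a x) = W) (x : 𝟙_ (Over (Spec (CommRingCat.of k))) ⟶ X) (hx : pt x ∈ W) :
    orb a x = W := by
  have hWc : IsClosed W := by rw [← hmin x hx]; exact isClosed_closure
  have hsub : ∀ x : 𝟙_ (Over (Spec (CommRingCat.of k))) ⟶ X, pt x ∈ W → orb a x ⊆ U :=
    fun x hx => (subset_closure.trans (hmin x hx).le).trans hWU
  have hUaff : IsAffine (U : Scheme.{u}) := hU
  have hJX : JacobsonSpace X.left := LocallyOfFiniteType.jacobsonSpace X.hom
  have hUft : LocallyOfFiniteType (U.ι ≫ X.hom) := inferInstance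
  have hJU : JacobsonSpace (U : Scheme.{u}) := LocallyOfFiniteType.jacobsonSpace (U.ι ≫ X.hom)
  have hUN : IsLocallyNoetherian (U : Scheme.{u}) :=
    LocallyOfFiniteType.isLocallyNoetherian (U.ι ≫ X.hom)
  have hUN' : IsNoetherian (U : Scheme.{u}) := {}
  have hNS : NoetherianSpace (U : Scheme.{u}) := inferInstance
  refine (subset_closure.trans (hmin x hx).le).antisymm ?_
  by_contra hne
  obtain ⟨w, hwW, hw⟩ := Set.not_subset.mp hne
  let f := orbLift a x U (hsub x hx)
  have hf : LocallyOfFiniteType f := by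
    have : LocallyOfFiniteType (f ≫ U.ι ≫ X.hom) := by
      rw [← Category.assoc, orbLift_ι, Over.w]
      infer_instance
    exact locallyOfFiniteType_of_comp f (U.ι ≫ X.hom)
  have hfp : LocallyOfFinitePresentation f := inferInstance
  have hqc : QuasiCompact f := inferInstance
  have hcon : IsConstructible (Set.range f) := by
    rw [← Set.image_univ]
    exact f.isConstructible_image IsConstructible.univ
  have hcon1 : IsConstructible (U.ι ⁻¹' W) := by
    have : IsClosed (U.ι ⁻¹' W) := hWc.preimage U.ι.continuous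
    have h2 : IsConstructible (U.ι ⁻¹' W)ᶜ := by
      exact IsRetrocompact.isConstructible this.isOpen_compl
        (fun V hV _ => NoetherianSpace.isCompact _)
    simpa using h2.compl
  have hcon2 : IsLocallyConstructible ((U.ι ⁻¹' W) ∩ (Set.range f)ᶜ) :=
    (hcon1.inter hcon.compl).isLocallyConstructible
  obtain ⟨z, ⟨hz1, hz2⟩, hz3⟩ := IsLocallyConstructible.exists_closedPoint hcon2
    ⟨⟨w, hWU hwW⟩, hwW, by
      rw [range_orbLift]
      exact hw⟩
  have hz4 : IsClosed ({U.ι z} : Set X.left) := by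
    rw [← U.ι.isOpenEmbedding.preimage_closedPoints] at hz3
    exact hz3
  obtain ⟨x', hx'⟩ := exists_pt (X := X) (U.ι z) hz4
  have hx'W : pt x' ∈ W := by rw [hx']; exact hz1
  let f' := orbLift a x' U (hsub x' hx'W)
  have hne : Nonempty G.left := ⟨pt (1 : 𝟙_ (Over (Spec (CommRingCat.of k))) ⟶ G)⟩
  obtain ⟨v, hv1, hv2⟩ := inter_range_nonempty f f' (by
    rw [range_orbLift, range_orbLift,
      ← U.ι.isOpenEmbedding.isOpenMap.preimage_closure_eq_closure_preimage U.ι.continuous,
      ← U.ι.isOpenEmbedding.isOpenMap.preimage_closure_eq_closure_preimage U.ι.continuous,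
      hmin x hx, hmin x' hx'W])
  rw [range_orbLift] at hv1 hv2
  obtain ⟨g, hg⟩ := exists_sm_eq_of_inter a x x' ⟨U.ι v, hv1, hv2⟩
  apply hz2
  rw [range_orbLift]
  change U.ι z ∈ orb a x
  rw [← hx', ← hg, ← section_orbitMap, pt_comp]
  exact ⟨_, rfl⟩

/-- Every fibre of a good quotient over a rational point contains a closed orbit. -/
theorem exists_closed_orbit [IsAffine G.left] [LocallyOfFiniteType G.hom]
    [LocallyOfFiniteType X.hom] (h : IsGoodQuot a φ)
    (y : 𝟙_ (Over (Spec (CommRingCat.of k))) ⟶ Y) :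
    ∃ x : 𝟙_ (Over (Spec (CommRingCat.of k))) ⟶ X, x ≫ φ = y ∧ IsClosed (orb a x) := by
  have hJX : JacobsonSpace X.left := LocallyOfFiniteType.jacobsonSpace X.hom
  have := h.affine
  obtain ⟨V, hV, hyV, -⟩ := exists_isAffineOpen_mem_and_subset (X := Y.left) (x := pt y) (U := ⊤)
    trivial
  let U : X.left.Opens := φ.left ⁻¹ᵁ V
  have hU : IsAffineOpen U := hV.preimage φ.left
  have hUaff : IsAffine (U : Scheme.{u}) := hU
  have hUft : LocallyOfFiniteType (U.ι ≫ X.hom) := inferInstance
  have hUN : IsLocallyNoetherian (U : Scheme.{u}) :=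
    LocallyOfFiniteType.isLocallyNoetherian (U.ι ≫ X.hom)
  have hUN' : IsNoetherian (U : Scheme.{u}) := {}
  have hNS : NoetherianSpace (U : Scheme.{u}) := inferInstance
  let Z : Set X.left := φ.left ⁻¹' {pt y}
  have hZ : IsClosed Z := (isClosed_pt y).preimage φ.left.continuous
  have hZU : Z ⊆ U := by
    intro z hz
    change φ.left z ∈ V
    rw [show φ.left z = pt y from hz]
    exact hyV
  have hZne : Z.Nonempty := IsGoodQuot.surjective h (pt y)
  have hZi : IsInvariantSet a Z := isInvariantSet_preimage h.inv _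
  let S : Set (Closeds X.left) := {W | (W : Set X.left).Nonempty ∧ IsInvariantSet a (W : Set X.left) ∧
    (W : Set X.left) ⊆ Z}
  let r : Closeds X.left → Closeds (U : Scheme.{u}) := fun W => W.preimage U.ι.continuous
  have hwf : WellFounded (InvImage (· < ·) r) := InvImage.wf r (wellFounded_lt (α := Closeds (U : Scheme.{u})))
  obtain ⟨W, ⟨hW1, hW2, hW3⟩, hW4⟩ := hwf.has_min S ⟨⟨Z, hZ⟩, hZne, hZi, subset_rfl⟩
  have hmin : ∀ x : 𝟙_ (Over (Spec (CommRingCat.of k))) ⟶ X, pt x ∈ (W : Set X.left) →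
      closure (orb a x) = W := by
    intro x hx
    have h1 : closure (orb a x) ⊆ W :=
      closure_minimal (orb_subset_of_invariant a hW2 x hx) W.isClosed
    let W' : Closeds X.left := ⟨closure (orb a x), isClosed_closure⟩
    have hW' : W' ∈ S := ⟨⟨_, subset_closure (mem_orb a x)⟩, isInvariantSet_closure_orb a x,
      h1.trans hW3⟩
    have h2 := hW4 W' hW'
    refine h1.antisymm fun w hw => ?_
    by_contra hne
    apply h2
    change r W' < r W
    refine lt_of_le_of_ne (fun z hz => h1 hz) ?_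
    intro he
    apply hne
    have : (⟨w, hZU (hW3 hw)⟩ : (U : Scheme.{u})) ∈ r W := hw
    rw [← he] at this
    exact this
  obtain ⟨w, hw1, hw2⟩ := nonempty_inter_closedPoints hW1 W.isClosed.isLocallyClosed
  obtain ⟨x, rfl⟩ := exists_pt (X := X) w hw2
  refine ⟨x, ?_, ?_⟩
  · apply pt_ext
    rw [pt_comp]
    exact hW3 hw1
  · rw [orb_eq_of_forall_closure_eq a U hU W (hW3.trans hZU) hmin x hw1]
    exact W.isClosed

end K990.NRQuot
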